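import Cfsg.Agent.H776.P4.Grp
import Cfsg.Agent.H756.PU.Engine
import Cfsg.Agent.H756.PU.Stmts
import Cfsg.Prelude.Def_Classical

/-!
# S5210: the statements

Plan with paper proofs: `outputs/live/tools/plans/S5210.md`. `HypK`, `Ess`, `Inv`, `Com`, `NormAut`, `TIAut`, `AF` are those of
`Cfsg.Agent.H756.PU` (S5258).
-/

set_option autoImplicit false

namespace Cfsg.Agent.H776.P4

open Cfsg Cfsg.FusionSystem
open Cfsg.Agent.H756.PU (HypK Ess Inv Com NormAut TIAut AF)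

universe u v

section
variable (K : Type u) [Field K] [StarRing K]

/-- `Z = Z(S)`, of order `q` -/
def PZ : Subgroup (PG K) where
  carrier := {g | g.r = 0 ∧ g.b = 0 ∧ g.c = 0}
  one_mem' := by simp
  mul_mem' := by
    rintro x y ⟨h1, h2, h3⟩ ⟨k1, k2, k3⟩
    simp [PG.mul_b, h1, h2, h3, k1, k2, k3]
  inv_mem' := by
    rintro x ⟨h1, h2, h3⟩
    simp [PG.inv_b, h1, h2, h3]

/-- `Y = Z₂(S) = S'`, elementary abelian of order `q³` -/
def PY : Subgroup (PG K) where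
  carrier := {g | g.r = 0 ∧ g.c = 0}
  one_mem' := by simp
  mul_mem' := by
    rintro x y ⟨h1, h3⟩ ⟨k1, k3⟩
    simp [h1, h3, k1, k3]
  inv_mem' := by
    rintro x ⟨h1, h3⟩
    simp [h1, h3]

/-- `V = J(S)`, elementary abelian of order `q⁴` -/
def PV : Subgroup (PG K) where
  carrier := {g | g.r = 0}
  one_mem' := by simp
  mul_mem' := by
    rintro x y h1 k1
    have h1' : x.r = 0 := h1
    have k1' : y.r = 0 := k1
    simp [h1', k1']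
  inv_mem' := by
    rintro x h1
    have h1' : x.r = 0 := h1
    simp [h1']

/-- `Q = q^{1+4}` -/
def PQ : Subgroup (PG K) where
  carrier := {g | g.c = 0}
  one_mem' := by simp
  mul_mem' := by
    rintro x y h1 k1
    have h1' : x.c = 0 := h1
    have k1' : y.c = 0 := k1
    simp [h1', k1']
  inv_mem' := by
    rintro x h1
    have h1' : x.c = 0 := h1
    simp [h1']

end

section
variable {K : Type u} [Field K] [StarRing K]

/-- `α` is the automorphism `tor(s, l, τ)` of `PG K` (similitude with multiplier `l` and `diag(s, 1)`, after the field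
automorphism `τ`) -/
structure IsTorP (α : MulAut (PG K)) (s l : K) (τ : K ≃+* K) : Prop where
  ns : s ≠ 0
  nl : l ≠ 0
  sl : star l = l
  tst : ∀ x, τ (star x) = star (τ x)
  r : ∀ g : PG K, (α g).r = s * τ g.r
  a : ∀ g : PG K, (α g).a = s * star s * l * τ g.a
  b : ∀ g : PG K, (α g).b = s * l * τ g.b
  c : ∀ g : PG K, (α g).c = l * τ g.c

variable (K) in
/-- the group of all these automorphisms -/
def TP : Subgroup (MulAut (PG K)) := Subgroup.closure {α | ∃ s l τ, IsTorP α s l τ}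

/-- `γ` is the restriction of `α` to `Q` -/
def IsRP (α : MulAut (PG K)) {Q : Subgroup (PG K)} (γ : MulAut Q) : Prop := ∀ e : Q, ((γ e : Q) : PG K) = α e

/-- the automorphism `θ_ψ : (r, a, b, c) ↦ (r, a + ψ c, b, c)` -/
structure IsTh (ψ : K → K) (θ : MulAut (PG K)) : Prop where
  add : ∀ x y : K, star x = x → star y = y → ψ (x + y) = ψ x + ψ y
  fix : ∀ x : K, star x = x → star (ψ x) = ψ x
  r : ∀ g : PG K, (θ g).r = g.r
  a : ∀ g : PG K, (θ g).a = g.a + ψ g.c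
  b : ∀ g : PG K, (θ g).b = g.b
  c : ∀ g : PG K, (θ g).c = g.c

/-- the automorphism `ε_κ` (only for `p = 3`): identity on `V`, `u_r ↦ (-(star κ r² + κ star r²), κ star r, 0) u_r` -/
structure IsEp (κ : K) (ε : MulAut (PG K)) : Prop where
  r : ∀ g : PG K, (ε g).r = g.r
  a : ∀ g : PG K, (ε g).a = g.a - (star κ * (g.r * g.r) + κ * star (g.r * g.r))
  b : ∀ g : PG K, (ε g).b = g.b + κ * star g.r
  c : ∀ g : PG K, (ε g).c = g.c

/-- the Weyl element of `Ω₄⁻(q) = PSL₂(q²)` on `V` -/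
structure IsWV (γ : MulAut (PV K)) : Prop where
  a : ∀ e : PV K, ((γ e : PV K) : PG K).a = (e : PG K).c
  b : ∀ e : PV K, ((γ e : PV K) : PG K).b = - star (e : PG K).b
  c : ∀ e : PV K, ((γ e : PV K) : PG K).c = (e : PG K).a

/-- the Weyl element of `SL₂(q)` on `Q` -/
structure IsWQ (γ : MulAut (PQ K)) : Prop where
  r : ∀ e : PQ K, ((γ e : PQ K) : PG K).r = (e : PG K).b
  a : ∀ e : PQ K, ((γ e : PQ K) : PG K).a =
    (e : PG K).a - ((e : PG K).r * star (e : PG K).b + star (e : PG K).r * (e : PG K).b)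
  b : ∀ e : PQ K, ((γ e : PQ K) : PG K).b = - (e : PG K).r

variable (K) in
/-- `Ω₄⁻(q)` on `V` -/
def LamV : Subgroup (MulAut (PV K)) := autInducedBy ⊤ (PV K) ⊔ Subgroup.closure {γ | IsWV γ}

variable (K) in
/-- `Inn(Q) SL₂(q)` -/
def LamQ : Subgroup (MulAut (PQ K)) := autInducedBy ⊤ (PQ K) ⊔ Subgroup.closure {γ | IsWQ γ}

/-- `Γ = Aut_F(Q)` for a parabolic `Q` whose Sylow subgroup is not normal, and `D` the `p'`-part of `Aut_F(S)` -/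
structure ParP (p : ℕ) (Q : Subgroup (PG K)) (Γ : Subgroup (MulAut Q)) (D : Subgroup (MulAut (PG K))) : Prop where
  indu : autInducedBy ⊤ Q ≤ Γ
  syl : ∀ P : Subgroup (MulAut Q), P ≤ Γ → IsPGroup p P → ∃ g ∈ Γ, ∀ x ∈ P, g * x * g⁻¹ ∈ autInducedBy ⊤ Q
  ti : TIAut (⊤ : Subgroup (PG K)) Γ
  nn : ¬ ∀ γ ∈ Γ, NormAut (⊤ : Subgroup (PG K)) γ
  D_le : D ≤ TP K
  D_cop : (Nat.card D).Coprime p
  D_res : ∀ d ∈ D, ∀ γ : MulAut Q, IsRP d γ → γ ∈ Γ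
  norm : ∀ γ ∈ Γ, NormAut (⊤ : Subgroup (PG K)) γ → ∃ x : PG K, ∃ d ∈ D, ∀ e : Q, ((γ e : Q) : PG K) = x * d e * x⁻¹

/-- `D` contains all the automorphisms `tor(f t, g t)`, `t ≠ 0` -/
def HasTorP (D : Subgroup (MulAut (PG K))) (f g : K → K) : Prop :=
  ∀ t : K, t ≠ 0 → ∀ α : MulAut (PG K), IsTorP α (f t) (g t) (RingEquiv.refl K) → α ∈ D

/-- `D` contains the torus of `SL₂(q)` on `Q` -/
def HasTorK (D : Subgroup (MulAut (PG K))) : Prop :=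
  ∀ t : K, t ≠ 0 → star t = t → ∀ α : MulAut (PG K), IsTorP α t (t⁻¹ * t⁻¹) (RingEquiv.refl K) → α ∈ D

/-- `Γ = Λ D` -/
def EqLD {Q : Subgroup (PG K)} (Γ Lam : Subgroup (MulAut Q)) (D : Subgroup (MulAut (PG K))) : Prop :=
  ∀ γ : MulAut Q, γ ∈ Γ ↔ ∃ l ∈ Lam, ∃ d ∈ D, ∃ δ : MulAut Q, IsRP d δ ∧ γ = l * δ

end

/-! ### Essential subgroups of `PG K` -/

/-- (E1) -/
def StE1 : Prop :=
  ∀ {K : Type u} [Field K] [StarRing K] {p n : ℕ}, HypK K p n →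
    ∀ {E : Subgroup (PG K)} {Γ : Subgroup (MulAut E)}, Ess (⊤ : Subgroup (PG K)) E p Γ → PY K ≤ E

/-- (E2) -/
def StE2 : Prop :=
  ∀ {K : Type u} [Field K] [StarRing K] {p n : ℕ}, HypK K p n →
    ∀ {E : Subgroup (PG K)} {Γ : Subgroup (MulAut E)}, Ess (⊤ : Subgroup (PG K)) E p Γ → PY K ≤ E →
    ¬ PV K ≤ E → Inv Γ (PZ K)

/-- (E3) -/
def StE3 : Prop :=
  ∀ {K : Type u} [Field K] [StarRing K] {p n : ℕ}, HypK K p n →
    ∀ {E : Subgroup (PG K)} {Γ : Subgroup (MulAut E)}, Ess (⊤ : Subgroup (PG K)) E p Γ → PY K ≤ E →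
    Inv Γ (PZ K) → PQ K ≤ E ∧ Inv Γ (PQ K)

/-- (E4) -/
def StE4 : Prop :=
  ∀ {K : Type u} [Field K] [StarRing K] {p n : ℕ}, HypK K p n → 2 < p ^ n →
    ∀ {E : Subgroup (PG K)} {Γ : Subgroup (MulAut E)}, Ess (⊤ : Subgroup (PG K)) E p Γ → PV K ≤ E → E = PV K

/-! ### The group and its parabolics -/

/-- (GRP) -/
def StGrp : Prop :=
  ∀ {K : Type u} [Field K] [StarRing K] {p n : ℕ}, HypK K p n →
    Nat.card (PG K) = (p ^ n) ^ 6 ∧ IsPGroup p (⊤ : Subgroup (PG K)) ∧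
    (∀ (s l : K) (τ : K ≃+* K), s ≠ 0 → l ≠ 0 → star l = l → ∃ α, IsTorP α s l τ) ∧
    (∀ α ∈ TP K, ∃ s l τ, IsTorP α s l τ) ∧
    (∀ ψ : K → K, (∀ x y : K, star x = x → star y = y → ψ (x + y) = ψ x + ψ y) →
      (∀ x : K, star x = x → star (ψ x) = ψ x) → ∃ θ, IsTh ψ θ) ∧
    (p = 3 → ∀ κ : K, ∃ ε, IsEp κ ε) ∧
    (∃ γ : MulAut (PV K), IsWV γ) ∧ (∃ γ : MulAut (PQ K), IsWQ γ)

/-- (TI) -/
def StTI : Prop :=
  ∀ {K : Type u} [Field K] [StarRing K] {p n : ℕ}, HypK K p n →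
    (∀ Γ : Subgroup (MulAut (PQ K)), autInducedBy ⊤ (PQ K) ≤ Γ →
      (∀ P : Subgroup (MulAut (PQ K)), P ≤ Γ → IsPGroup p P →
        ∃ g ∈ Γ, ∀ x ∈ P, g * x * g⁻¹ ∈ autInducedBy ⊤ (PQ K)) → TIAut (⊤ : Subgroup (PG K)) Γ) ∧
    (∀ Q : Subgroup (PG K), (Q = PV K ∨ Q = PQ K) →
      centralizerIn ⊤ Q ≤ Q ∧ Q ≠ ⊤ ∧ (∀ α : MulAut (PG K), Q.map α.toMonoidHom = Q))

/-- (NoOver, generic) if no essential subgroup properly contains the centric normal subgroup `Q` then `Aut_S(Q)` is TI -/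
def StNoOver : Prop :=
  ∀ {Ω : Type u} [Group Ω] {S : Subgroup Ω} [Finite S] {p : ℕ} [Fact p.Prime] (F : FusionSystem S) (Q : Subgroup Ω),
    IsPGroup p S → F.IsSaturated p → Q ≤ S → S ≤ Subgroup.normalizer (Q : Set Ω) → centralizerIn S Q ≤ Q →
    (∀ E, F.IsEssential p E → Q ≤ E → E = Q) → Inv (F.autGroup S) Q → TIAut S (F.autGroup Q)

/-- (PAR, generic for `PG K`) the structure `ParP` from a saturated system with `Aut_F(S) = Inn(S) D` -/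
def StPar : Prop :=
  ∀ {K : Type u} [Field K] [StarRing K] {p n : ℕ} [Fact p.Prime], HypK K p n →
    ∀ (F : FusionSystem (⊤ : Subgroup (PG K))) (D : Subgroup (MulAut (PG K))) (Q : Subgroup (PG K)), F.IsSaturated p →
    (Q = PV K ∨ Q = PQ K) → D ≤ TP K → (Nat.card D).Coprime p →
    AF F = (MulAut.conj : PG K →* MulAut (PG K)).range ⊔ D → TIAut (⊤ : Subgroup (PG K)) (F.autGroup Q) →
    (¬ ∀ γ ∈ F.autGroup Q, NormAut (⊤ : Subgroup (PG K)) γ) → ParP p Q (F.autGroup Q) D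

/-- (POS) every `p'`-group of automorphisms of `PG K` is conjugate into `TP K` -/
def StPos : Prop :=
  ∀ {K : Type u} [Field K] [StarRing K] {p n : ℕ}, HypK K p n → ∀ D : Subgroup (MulAut (PG K)),
    (Nat.card D).Coprime p → ∃ θ : MulAut (PG K), ∀ d ∈ D, θ * d * θ⁻¹ ∈ TP K

/-- (RK) rank one identification: a finite group with a TI, non-normal, elementary abelian Sylow `p`-subgroup of order
`p^m`, `m ≥ 2` -/
def StRk : Prop :=
  ∀ {G : Type u} [Group G] [Finite G] {p m : ℕ} [Fact p.Prime] (P : Sylow p G), 2 ≤ m →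
    (∀ g : G, g ∉ Subgroup.normalizer ((P : Subgroup G) : Set G) → ∀ x ∈ (P : Subgroup G), g * x * g⁻¹ ∈ (P : Subgroup G) →
      x = 1) →
    ¬ (P : Subgroup G).Normal → Nat.card P = p ^ m →
    (∀ x ∈ (P : Subgroup G), ∀ y ∈ (P : Subgroup G), x * y = y * x) → (∀ x ∈ (P : Subgroup G), x ^ p = 1) →
    (p ≠ 2 → Nat.card G ∣ Nat.card (GL (Fin (2 * m)) (ZMod p))) →
    (∀ P' P'' : Sylow p G, P' ≠ P → P'' ≠ P → ∃ x ∈ (P : Subgroup G),
      (P' : Subgroup G).map (MulAut.conj x).toMonoidHom = P'') ∧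
    (∀ P' : Sylow p G, P' ≠ P → ∀ x ∈ (P : Subgroup G), x ≠ 1 → ∃ y ∈ (P' : Subgroup G),
      (P : Subgroup G).map (MulAut.conj (x * y * x)).toMonoidHom = P' ∧
      (P' : Subgroup G).map (MulAut.conj (x * y * x)).toMonoidHom = P) ∧
    (∀ P' : Sylow p G, P' ≠ P → ∃ h ∈ Subgroup.normalizer ((P : Subgroup G) : Set G),
      h ∈ Subgroup.normalizer ((P' : Subgroup G) : Set G) ∧
      ∀ j : ℕ, 0 < j → j * (if p = 2 then 1 else 2) < p ^ m - 1 → ∀ x ∈ (P : Subgroup G), h ^ j * x = x * h ^ j → x = 1)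

/-- (V1) the opposite unipotent group on `V` -/
def StV1 : Prop :=
  ∀ {K : Type u} [Field K] [StarRing K] {p n : ℕ}, HypK K p n →
    ∀ (Γ : Subgroup (MulAut (PV K))) (D : Subgroup (MulAut (PG K))), ParP p (PV K) Γ D →
    ∃ Um : Subgroup (MulAut (PV K)), Um ≤ Γ ∧
      (∀ d ∈ D, ∀ δ : MulAut (PV K), IsRP d δ → ∀ y ∈ Um, δ * y * δ⁻¹ ∈ Um) ∧
      (∀ x ∈ autInducedBy ⊤ (PV K), x ≠ 1 → ∃ y ∈ Um,
        (∀ z, z ∈ Um ↔ (x * y * x) * z * (x * y * x)⁻¹ ∈ autInducedBy ⊤ (PV K)) ∧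
        (∀ z, z ∈ autInducedBy ⊤ (PV K) ↔ (x * y * x) * z * (x * y * x)⁻¹ ∈ Um)) ∧
      (∀ γ ∈ Γ, ∃ g ∈ autInducedBy ⊤ (PV K) ⊔ Um, NormAut (⊤ : Subgroup (PG K)) (g⁻¹ * γ)) ∧
      (∀ v : PV K, (v : PG K) ∈ PY K → (∀ y ∈ Um, y v = v) → v = 1) ∧
      (∃ s : K, s ≠ 1 ∧ s * star s = 1 ∧ ∃ α ∈ D, IsTorP α s 1 (RingEquiv.refl K))

/-- (V) the parabolic `V`: up to an automorphism `θ_ψ` commuting with `D`, `Γ = Λ_V D` -/
def StV : Prop :=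
  ∀ {K : Type u} [Field K] [StarRing K] {p n : ℕ}, HypK K p n →
    ∀ (Γ : Subgroup (MulAut (PV K))) (D : Subgroup (MulAut (PG K))), ParP p (PV K) Γ D →
    HasTorP D (fun t => t ^ 2) (fun t => (t * star t)⁻¹) ∧
    ∃ (ψ : K → K) (θ : MulAut (PG K)) (t : MulAut (PV K)), IsTh ψ θ ∧ (∀ d ∈ D, θ * d = d * θ) ∧ IsRP θ t ∧
      EqLD (Γ.map (MulAut.conj t).toMonoidHom) (LamV K) D

/-- (Q1) the opposite root group on `Q`, `q > 3` -/
def StQ1 : Prop :=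
  ∀ {K : Type u} [Field K] [StarRing K] {p n : ℕ}, HypK K p n → 3 < p ^ n →
    ∀ (Γ : Subgroup (MulAut (PQ K))) (D : Subgroup (MulAut (PG K))), ParP p (PQ K) Γ D →
    HasTorP D (fun t => t ^ 2) (fun t => (t * star t)⁻¹) →
    ∃ Rm : Subgroup (MulAut (PQ K)), Rm ≤ Γ ∧ Inn (PQ K) ≤ Rm ∧
      (∀ d ∈ D, ∀ δ : MulAut (PQ K), IsRP d δ → ∀ y ∈ Rm, δ * y * δ⁻¹ ∈ Rm) ∧
      (∀ x ∈ autInducedBy ⊤ (PQ K), x ∉ Inn (PQ K) → ∃ y ∈ Rm,
        (∀ z, z ∈ Rm ↔ (x * y * x) * z * (x * y * x)⁻¹ ∈ autInducedBy ⊤ (PQ K)) ∧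
        (∀ z, z ∈ autInducedBy ⊤ (PQ K) ↔ (x * y * x) * z * (x * y * x)⁻¹ ∈ Rm)) ∧
      (∀ γ ∈ Γ, ∃ g ∈ autInducedBy ⊤ (PQ K) ⊔ Rm, NormAut (⊤ : Subgroup (PG K)) (g⁻¹ * γ)) ∧
      (∀ v : PQ K, (v : PG K) ∈ PY K → (∀ y ∈ Rm, ((y v : PQ K) : PG K) * (v : PG K)⁻¹ ∈ PZ K) → (v : PG K) ∈ PZ K)

/-- (Qa) the action on `Q/Z`, `q > 3` -/
def StQa : Prop :=
  ∀ {K : Type u} [Field K] [StarRing K] {p n : ℕ}, HypK K p n → 3 < p ^ n →
    ∀ (Γ : Subgroup (MulAut (PQ K))) (D : Subgroup (MulAut (PG K))), ParP p (PQ K) Γ D →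
    HasTorP D (fun t => t ^ 2) (fun t => (t * star t)⁻¹) →
    HasTorK D ∧
    (∀ l ∈ LamQ K, ∃ γ ∈ Γ, ∀ e : PQ K, ((γ e : PQ K) : PG K).r = ((l e : PQ K) : PG K).r ∧
      ((γ e : PQ K) : PG K).b = ((l e : PQ K) : PG K).b) ∧
    (∀ γ ∈ Γ, ∃ l ∈ LamQ K, ∃ d ∈ D, ∃ δ : MulAut (PQ K), IsRP d δ ∧
      ∀ e : PQ K, ((γ e : PQ K) : PG K).r = (((l * δ) e : PQ K) : PG K).r ∧
      ((γ e : PQ K) : PG K).b = (((l * δ) e : PQ K) : PG K).b)

/-- (Q) the parabolic `Q`, `q > 3` -/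
def StQ : Prop :=
  ∀ {K : Type u} [Field K] [StarRing K] {p n : ℕ}, HypK K p n → 3 < p ^ n →
    ∀ (Γ : Subgroup (MulAut (PQ K))) (D : Subgroup (MulAut (PG K))), ParP p (PQ K) Γ D →
    HasTorP D (fun t => t ^ 2) (fun t => (t * star t)⁻¹) → HasTorK D ∧ EqLD Γ (LamQ K) D

/-- (QTwo) the parabolic `Q`, `q = 2` -/
def StQTwo : Prop :=
  ∀ {K : Type u} [Field K] [StarRing K] {p n : ℕ}, HypK K p n → p ^ n = 2 →
    ∀ (Γ : Subgroup (MulAut (PQ K))) (D : Subgroup (MulAut (PG K))), ParP p (PQ K) Γ D → EqLD Γ (LamQ K) D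

/-- (REAL) -/
def StReal : Prop :=
  ∀ {K : Type u} [Field K] [StarRing K] {p n : ℕ} [Fact p.Prime], HypK K p n → ∀ D : Subgroup (MulAut (PG K)),
    D ≤ TP K → (Nat.card D).Coprime p → HasTorP D (fun t => t ^ 2) (fun t => (t * star t)⁻¹) → HasTorK D →
    ∃ F : FusionSystem (⊤ : Subgroup (PG K)), F.IsSaturated p ∧ F.IsRealizable p ∧
      AF F = (MulAut.conj : PG K →* MulAut (PG K)).range ⊔ D ∧
      (¬ ∀ γ ∈ F.autGroup (PV K), NormAut (⊤ : Subgroup (PG K)) γ) ∧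
      (¬ ∀ γ ∈ F.autGroup (PQ K), NormAut (⊤ : Subgroup (PG K)) γ) ∧
      (∀ γ ∈ F.autGroup (PQ K), ∃ l ∈ LamQ K, ∃ d ∈ D, ∃ δ : MulAut (PQ K), IsRP d δ ∧ γ = l * δ) ∧
      (∀ E, F.IsEssential p E → E = PV K ∨ E = PQ K)

/-- (SYL) the Sylow subgroup of `PSU₄(q)` is `PG K` -/
def StSyl : Prop :=
  ∀ {K : Type u} [Field K] [StarRing K] {p n : ℕ} [Fact p.Prime], HypK K p n →
    ∀ T : Sylow p (Cfsg.PSU 4 K (p ^ n)), Nonempty (↥(T : Subgroup (Cfsg.PSU 4 K (p ^ n))) ≃* PG K)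

/-! ### `q = 2` -/

section
variable {K : Type u} [Field K] [StarRing K]

/-- `E_α = V⟨u_α⟩` (for `p = 2` this is the set itself) -/
def EA (α : K) : Subgroup (PG K) := Subgroup.closure {g | g.r = 0 ∨ g.r = α}

end

/-- (2E) -/
def StTwoE : Prop :=
  ∀ {K : Type u} [Field K] [StarRing K] {p n : ℕ} [Fact p.Prime], HypK K p n → p ^ n = 2 →
    ∀ (F : FusionSystem (⊤ : Subgroup (PG K))), F.IsSaturated p → ∀ E, F.IsEssential p E →
    E = PV K ∨ E = PQ K ∨ ∃ α : K, α ≠ 0 ∧ E = EA α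

/-- (2B) if some `E_α` is essential then `F` is constrained, or looks like that of `A₈` -/
def StTwoB : Prop :=
  ∀ {K : Type u} [Field K] [StarRing K] {p n : ℕ} [Fact p.Prime], HypK K p n → p ^ n = 2 →
    ∀ (F : FusionSystem (⊤ : Subgroup (PG K))), F.IsSaturated p → ∀ α : K, α ≠ 0 → F.IsEssential p (EA α) →
    F.IsRealizable p ∨
    (Nat.card (F.autGroup (PV K)) = 36 ∧ AF F = (MulAut.conj : PG K →* MulAut (PG K)).range ∧
      ¬ ∀ γ ∈ F.autGroup (PQ K), NormAut (⊤ : Subgroup (PG K)) γ)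

/-- (2U) the subgroups of order `36` of `GL(V)` containing `U` are conjugate under `Aut(S)` -/
def StTwoU : Prop :=
  ∀ {K : Type u} [Field K] [StarRing K] {p n : ℕ}, HypK K p n → p ^ n = 2 →
    ∀ (Γ Γ' : Subgroup (MulAut (PV K))), autInducedBy ⊤ (PV K) ≤ Γ → autInducedBy ⊤ (PV K) ≤ Γ' →
    Nat.card Γ = 36 → Nat.card Γ' = 36 →
    ∃ (θ : MulAut (PG K)) (t : MulAut (PV K)), IsRP θ t ∧ Γ.map (MulAut.conj t).toMonoidHom = Γ'

/-- (2R) the fusion system of `A₈ ≅ GL₄(2)` -/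
def StTwoR : Prop :=
  ∀ {K : Type u} [Field K] [StarRing K] {p n : ℕ} [Fact p.Prime], HypK K p n → p ^ n = 2 →
    ∃ F : FusionSystem (⊤ : Subgroup (PG K)), F.IsSaturated p ∧ F.IsRealizable p ∧
      Nat.card (F.autGroup (PV K)) = 36 ∧ AF F = (MulAut.conj : PG K →* MulAut (PG K)).range ∧
      ¬ ∀ γ ∈ F.autGroup (PQ K), NormAut (⊤ : Subgroup (PG K)) γ

/-- (2S) for `q = 2` a saturated system is determined by the automizers of `S`, `V`, `Q` -/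
def StTwoS : Prop :=
  ∀ {K : Type u} [Field K] [StarRing K] {p n : ℕ} [Fact p.Prime], HypK K p n → p ^ n = 2 →
    ∀ (F F' : FusionSystem (⊤ : Subgroup (PG K))), F.IsSaturated p → F'.IsSaturated p →
    F.autGroup ⊤ = F'.autGroup ⊤ → F.autGroup (PV K) = F'.autGroup (PV K) →
    F.autGroup (PQ K) = F'.autGroup (PQ K) → ∀ P, F.Hom P = F'.Hom P

/-! ### `q = 3` -/

section
variable {K : Type u} [Field K] [StarRing K]

/-- `W_κ = ε_κ W ε_κ⁻¹` on `Q`, `W` the Weyl element -/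
def IsWk (κ : K) (γ : MulAut (PQ K)) : Prop :=
  ∃ (ε : MulAut (PG K)) (n t : MulAut (PQ K)), IsEp κ ε ∧ IsWQ n ∧ IsRP ε t ∧ γ = t * n * t⁻¹

/-- the points `κ` with `W_κ ∈ Γ` -/
def Pt (Γ : Subgroup (MulAut (PQ K))) : Set K := {κ | ∃ γ ∈ Γ, IsWk κ γ}

/-- `Inn(Q)` and the groups `X_κ ≅ SL₂(3)`, `κ ∈ P` -/
def LamP (P : Set K) : Subgroup (MulAut (PQ K)) :=
  autInducedBy ⊤ (PQ K) ⊔ Subgroup.closure {γ | ∃ κ ∈ P, IsWk κ γ}

/-- the action of `tor(s, l, τ)` on the plane `K` of the `ε_κ` -/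
def actK (s l : K) (τ : K ≃+* K) (κ : K) : K := l * s * (star s)⁻¹ * τ κ

/-- `D` fixes the point `κ` -/
def FixK (D : Subgroup (MulAut (PG K))) (κ : K) : Prop :=
  ∀ d ∈ D, ∀ s l τ, IsTorP d s l τ → actK s l τ κ = κ

/-- `D` leaves the set `P` invariant -/
def InvK (D : Subgroup (MulAut (PG K))) (P : Set K) : Prop :=
  ∀ d ∈ D, ∀ s l τ, IsTorP d s l τ → ∀ κ ∈ P, actK s l τ κ ∈ P

/-- the six configurations, `ι² = -1`: `0` a point (`U₄(3)`), `1, 2` a line of square direction (`U₆(2)`), `3, 4` two points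
in a non-square direction (`McL`), `5` a cross (`Co₂`) -/
def Cfg (ι : K) : Fin 6 → Set K
  | 0 => {0}
  | 1 => {0, 1, -1}
  | 2 => {0, ι, -ι}
  | 3 => {1 + ι, -(1 + ι)}
  | 4 => {1 - ι, -(1 - ι)}
  | 5 => {0, 1, -1, ι, -ι}

/-- the linear maps of the plane which must be induced by elements of `D` -/
def CfgMap (ι : K) : Fin 6 → (K → K) → Prop
  | 0 => fun _ => False
  | 1 => fun f => ∀ x, f x = star x
  | 2 => fun f => ∀ x, f x = - star x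
  | 3 => fun f => ∀ x, f x = - ι * star x
  | 4 => fun f => ∀ x, f x = ι * star x
  | 5 => fun f => (∀ x, f x = star x) ∨ (∀ x, f x = - star x) ∨ (∀ x, f x = ι * x)

end

/-- (3A) for `q = 3`: `Γ` is generated by the `X_κ` in it and `D` -/
def StThreeA : Prop :=
  ∀ {K : Type u} [Field K] [StarRing K] {p n : ℕ}, HypK K p n → p ^ n = 3 →
    ∀ (Γ : Subgroup (MulAut (PQ K))) (D : Subgroup (MulAut (PG K))), ParP p (PQ K) Γ D →
    HasTorP D (fun t => t ^ 2) (fun t => (t * star t)⁻¹) →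
    (Pt Γ).Nonempty ∧ InvK D (Pt Γ) ∧ EqLD Γ (LamP (Pt Γ)) D

/-- (3B) the third point: closed in the square directions; not allowed in the others (`ι² = -1`) -/
def StThreeB : Prop :=
  ∀ {K : Type u} [Field K] [StarRing K] {p n : ℕ}, HypK K p n → p ^ n = 3 →
    ∀ (Γ : Subgroup (MulAut (PQ K))), autInducedBy ⊤ (PQ K) ≤ Γ →
    (∀ κ ∈ Pt Γ, ∀ v : K, v ^ 4 = 1 → κ + v ∈ Pt Γ → κ - v ∈ Pt Γ) ∧
    ((∀ P : Subgroup (MulAut (PQ K)), P ≤ Γ → IsPGroup p P → ∃ g ∈ Γ, ∀ x ∈ P, g * x * g⁻¹ ∈ autInducedBy ⊤ (PQ K)) →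
      ∀ κ ∈ Pt Γ, ∀ v : K, v ^ 4 = -1 → κ + v ∈ Pt Γ → ¬ κ - v ∈ Pt Γ)

/-- (3C) the elements of `D` forced by two points `κ ± v`: `D` contains all the `tor(s, l, τ)` acting on the plane as
`x ↦ - v * (star v)⁻¹ * star x` if `v` is a non-square (the reflection `v ↦ -v`) and as `x ↦ v * (star v)⁻¹ * star x` if `v` is a
square (the reflection fixing `v`) -/
def StThreeC : Prop :=
  ∀ {K : Type u} [Field K] [StarRing K] {p n : ℕ}, HypK K p n → p ^ n = 3 →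
    ∀ (Γ : Subgroup (MulAut (PQ K))) (D : Subgroup (MulAut (PG K))), ParP p (PQ K) Γ D →
    HasTorP D (fun t => t ^ 2) (fun t => (t * star t)⁻¹) →
    ∀ κ ∈ Pt Γ, ∀ v : K, v ≠ 0 → κ + v ∈ Pt Γ →
    ∀ (α : MulAut (PG K)) (s l : K) (τ : K ≃+* K), IsTorP α s l τ →
      ((v ^ 4 = 1 ∧ ∀ x, actK s l τ x = v * (star v)⁻¹ * star x) ∨
        (v ^ 4 = -1 ∧ ∀ x, actK s l τ x = - (v * (star v)⁻¹ * star x))) → α ∈ D

/-- (3D) classification of the configurations -/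
def StThreeD : Prop :=
  ∀ {K : Type u} [Field K] [StarRing K] {p n : ℕ}, HypK K p n → p ^ n = 3 → ∀ ι : K, ι * ι = -1 →
    ∀ (Γ : Subgroup (MulAut (PQ K))) (D : Subgroup (MulAut (PG K))), ParP p (PQ K) Γ D →
    HasTorP D (fun t => t ^ 2) (fun t => (t * star t)⁻¹) →
    ∃ (κ : K) (T : Fin 6), FixK D κ ∧ Pt Γ = {x | ∃ y ∈ Cfg ι T, x = κ + y} ∧ InvK D (Cfg ι T) ∧
      (∀ (α : MulAut (PG K)) (s l : K) (τ : K ≃+* K), IsTorP α s l τ → CfgMap ι T (actK s l τ) → α ∈ D) ∧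
      EqLD Γ (LamP (Pt Γ)) D ∧ HasTorK D

/-- (3N) numerical consequences: `|D|` and `|Γ|` (`|Inn(Q)| = 81`) in the six cases -/
def StThreeN : Prop :=
  ∀ {K : Type u} [Field K] [StarRing K] {p n : ℕ}, HypK K p n → p ^ n = 3 → ∀ ι : K, ι * ι = -1 →
    ∀ (Γ : Subgroup (MulAut (PQ K))) (D : Subgroup (MulAut (PG K))), ParP p (PQ K) Γ D →
    HasTorP D (fun t => t ^ 2) (fun t => (t * star t)⁻¹) → ∀ T : Fin 6, Pt Γ = Cfg ι T →
    EqLD Γ (LamP (Pt Γ)) D →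
    (T = 0 → Nat.card Γ = 81 * 12 * Nat.card D) ∧
    (T = 1 ∨ T = 2 → Nat.card Γ = 81 * 48 * Nat.card D) ∧
    (T = 3 ∨ T = 4 → Nat.card Γ = 81 * 30 * Nat.card D) ∧
    (T = 5 → Nat.card Γ = 81 * 120 * Nat.card D)

/-- (3P) the groups: for each of the five pairs `(|D|, |Γ|/81)` there is a realizable system -/
def StThreeP (d y : ℕ) : Prop :=
  ∀ {K : Type u} [Field K] [StarRing K] {p n : ℕ} [Fact p.Prime], HypK K p n → p ^ n = 3 →
    ∃ F : FusionSystem (⊤ : Subgroup (PG K)), F.IsSaturated p ∧ F.IsRealizable p ∧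
      Nat.card (AF F) = 243 * d ∧ Nat.card (F.autGroup (PQ K)) = 81 * y ∧
      (¬ ∀ γ ∈ F.autGroup (PV K), NormAut (⊤ : Subgroup (PG K)) γ) ∧
      (¬ ∀ γ ∈ F.autGroup (PQ K), NormAut (⊤ : Subgroup (PG K)) γ)

end Cfsg.Agent.H776.P4
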