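import Cfsg.Agent.H776.P4.Stmts

/-!
# S5210: further statements (used by the assembly)
-/

set_option autoImplicit false

namespace Cfsg.Agent.H776.P4

open Cfsg Cfsg.FusionSystem
open Cfsg.Agent.H756.PU (HypK Ess Inv Com NormAut TIAut AF)

universe u v

/-- (TW2) twisting a system over the whole group `G0` by an automorphism, with all the automizers -/
def StTwist2 : Prop :=
  ∀ {G0 : Type u} [Group G0] [Finite G0] {p : ℕ} [Fact p.Prime] (F : FusionSystem (⊤ : Subgroup G0)) (θ : MulAut G0),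
    F.IsSaturated p →
    ∃ F' : FusionSystem (⊤ : Subgroup G0), F'.IsSaturated p ∧ (F'.IsRealizable p ↔ F.IsRealizable p) ∧
      AF F' = (AF F).map (MulAut.conj θ).toMonoidHom ∧
      (∀ E : Subgroup G0, F.IsEssential p E ↔ F'.IsEssential p (E.map θ.toMonoidHom)) ∧
      (∀ (Q : Subgroup G0) (t : MulAut Q), (∀ e : Q, ((t e : Q) : G0) = θ e) →
        F'.autGroup Q = (F.autGroup Q).map (MulAut.conj t).toMonoidHom)

/-- (EP) calculus of the automorphisms `ε_κ` (`p = 3`): composition, conjugation by the torus, action on the points -/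
def StEp : Prop :=
  ∀ {K : Type u} [Field K] [StarRing K] {p n : ℕ}, HypK K p n → p ^ n = 3 →
    (∀ (κ κ' : K) (ε ε' : MulAut (PG K)), IsEp κ ε → IsEp κ' ε' → IsEp (κ + κ') (ε * ε')) ∧
    (∀ (κ : K) (d ε : MulAut (PG K)) (s l : K) (τ : K ≃+* K), IsTorP d s l τ → IsEp κ ε →
      IsEp (actK s l τ κ) (d * ε * d⁻¹)) ∧
    (∀ (κ : K) (ε : MulAut (PG K)) (t : MulAut (PV K)), IsEp κ ε → IsRP ε t → t = 1) ∧
    (∀ (κ : K) (ε : MulAut (PG K)) (t : MulAut (PQ K)) (Γ : Subgroup (MulAut (PQ K))), IsEp κ ε → IsRP ε t →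
      autInducedBy ⊤ (PQ K) ≤ Γ → Pt (Γ.map (MulAut.conj t).toMonoidHom) = {x | ∃ y ∈ Pt Γ, x = κ + y}) ∧
    (∀ (d : MulAut (PG K)) (s l : K) (τ : K ≃+* K) (t : MulAut (PQ K)) (Γ : Subgroup (MulAut (PQ K))), IsTorP d s l τ →
      IsRP d t → autInducedBy ⊤ (PQ K) ≤ Γ →
      Pt (Γ.map (MulAut.conj t).toMonoidHom) = {x | ∃ y ∈ Pt Γ, x = actK s l τ y}) ∧
    (LamP ({0} : Set K) = LamQ K)

/-- (LN) the torus with field automorphisms normalizes `LamV` and `LamQ` -/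
def StLamN : Prop :=
  ∀ {K : Type u} [Field K] [StarRing K] {p n : ℕ}, HypK K p n →
    ∀ d ∈ TP K, (∀ δ : MulAut (PV K), IsRP d δ → (LamV K).map (MulAut.conj δ).toMonoidHom = LamV K) ∧
      (∀ δ : MulAut (PQ K), IsRP d δ → (LamQ K).map (MulAut.conj δ).toMonoidHom = LamQ K)

/-- (2N) for `q = 2`: if `D` contains the torus then no `E_α` is essential -/
def StTwoN : Prop :=
  ∀ {K : Type u} [Field K] [StarRing K] {p n : ℕ} [Fact p.Prime], HypK K p n → p ^ n = 2 →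
    ∀ (F : FusionSystem (⊤ : Subgroup (PG K))) (D : Subgroup (MulAut (PG K))), F.IsSaturated p → D ≤ TP K →
    (Nat.card D).Coprime p → HasTorP D (fun t => t ^ 2) (fun t => (t * star t)⁻¹) →
    AF F = (MulAut.conj : PG K →* MulAut (PG K)).range ⊔ D → ∀ α : K, α ≠ 0 → ¬ F.IsEssential p (EA α)

/-- (3T) for `q = 3`: the subgroups `D` of `TP K` (order `32`) compatible with the configuration `T` -/
def StThreeT : Prop :=
  ∀ {K : Type u} [Field K] [StarRing K] {p n : ℕ}, HypK K p n → p ^ n = 3 → ∀ ι : K, ι * ι = -1 →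
    Nat.card (TP K) = 32 ∧
    (∀ (κ : K) (T T' : Fin 6), {x | ∃ y ∈ Cfg ι T, x = κ + y} = Cfg ι T' → T = T') ∧
    (∃ (α : MulAut (PG K)) (s l : K) (τ : K ≃+* K), IsTorP α s l τ ∧
      Cfg ι 1 = {x | ∃ y ∈ Cfg ι 2, x = actK s l τ y} ∧ Cfg ι 3 = {x | ∃ y ∈ Cfg ι 4, x = actK s l τ y}) ∧
    (∀ (T : Fin 6) (D : Subgroup (MulAut (PG K))), D ≤ TP K →
      HasTorP D (fun t => t ^ 2) (fun t => (t * star t)⁻¹) → InvK D (Cfg ι T) →
      (∀ (α : MulAut (PG K)) (s l : K) (τ : K ≃+* K), IsTorP α s l τ → CfgMap ι T (actK s l τ) → α ∈ D) →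
      (T = 1 ∨ T = 2 ∨ T = 3 ∨ T = 4 → Nat.card D = 8 ∨ Nat.card D = 16) ∧ (T = 5 → Nat.card D = 32) ∧
      (∀ D' : Subgroup (MulAut (PG K)), T ≠ 0 → D' ≤ TP K →
        HasTorP D' (fun t => t ^ 2) (fun t => (t * star t)⁻¹) → InvK D' (Cfg ι T) →
        (∀ (α : MulAut (PG K)) (s l : K) (τ : K ≃+* K), IsTorP α s l τ → CfgMap ι T (actK s l τ) → α ∈ D') →
        Nat.card D = Nat.card D' → D = D'))

end Cfsg.Agent.H776.P4
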