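import Cfsg.Agent.H756.PU.AsmGen
import Cfsg.Agent.H776.P4.Stmts2

/-!
# S5210: the assembly, common part and the case `q > 3`
-/

set_option autoImplicit false

namespace Cfsg.Agent.H776.P4

open Cfsg Cfsg.FusionSystem Cfsg.Agent.H802
open Cfsg.Agent.H756.PU (HypK Ess Inv Com NormAut TIAut AF)
open Cfsg.Agent.H756

universe u v

/-- the generic pieces (engine) -/
structure Eng : Prop where
  ess : PU.StEss.{u}
  ovr : PU.StOver.{u}
  con : PU.StCon.{u}
  same : PU.StSame.{u}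
  compl : PU.StCompl.{u}
  tw : StTwist2.{u}
  noOver : StNoOver.{u}

/-- the pieces for all `q` -/
structure Pcs : Prop extends Eng.{u} where
  grp : StGrp.{u}
  e1 : StE1.{u}
  e2 : StE2.{u}
  e3 : StE3.{u}
  e4 : StE4.{u}
  ti : StTI.{u}
  par : StPar.{u}
  pos : StPos.{u}
  v : StV.{u}
  real : StReal.{u}

section

variable {K : Type u} [Field K] [StarRing K] {p n : ℕ}

theorem finite_PG (H : Pcs.{u}) (hK : HypK K p n) : Finite (PG K) := by
  apply Nat.finite_of_card_ne_zero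
  rw [(H.grp hK).1]
  exact pow_ne_zero _ (pow_ne_zero _ hK.pp.ne_zero)

theorem ti_Q (H : Pcs.{u}) (hK : HypK K p n) {F : FusionSystem (⊤ : Subgroup (PG K))} (hF : F.IsSaturated p) :
    TIAut (⊤ : Subgroup (PG K)) (F.autGroup (PQ K)) := by
  have : Fact p.Prime := ⟨hK.pp⟩
  have hfin : Finite (PG K) := finite_PG H hK
  have hS : IsPGroup p (⊤ : Subgroup (PG K)) := (H.grp hK).2.1
  have hn := PU.top_le_normalizer_of_char ((H.ti hK).2 _ (Or.inr rfl)).2.2
  exact (H.ti hK).1 _ (autInducedBy_le_autGroup F le_top) (PU.syl_of_normal hS hF hn)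

theorem ti_V (H : Pcs.{u}) (hK : HypK K p n) {F : FusionSystem (⊤ : Subgroup (PG K))} (hF : F.IsSaturated p)
    (hess : ∀ E, F.IsEssential p E → PV K ≤ E → E = PV K) :
    TIAut (⊤ : Subgroup (PG K)) (F.autGroup (PV K)) := by
  have : Fact p.Prime := ⟨hK.pp⟩
  have hfin : Finite (PG K) := finite_PG H hK
  have hS : IsPGroup p (⊤ : Subgroup (PG K)) := (H.grp hK).2.1
  obtain ⟨h1, -, h3⟩ := (H.ti hK).2 _ (Or.inl rfl)
  exact H.noOver F (PV K) hS hF le_top (PU.top_le_normalizer_of_char h3) h1 hess (PU.inv_top_of_char h3)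

/-- essential subgroups not containing `V` -/
theorem ess_not_V (H : Pcs.{u}) (hK : HypK K p n) {F : FusionSystem (⊤ : Subgroup (PG K))}
    (hF : F.IsSaturated p) {E : Subgroup (PG K)} (hE : F.IsEssential p E) : PV K ≤ E ∨ E = PQ K := by
  have : Fact p.Prime := ⟨hK.pp⟩
  have hfin : Finite (PG K) := finite_PG H hK
  have hS : IsPGroup p (⊤ : Subgroup (PG K)) := (H.grp hK).2.1
  have he : Ess (⊤ : Subgroup (PG K)) E p (F.autGroup E) := H.ess F E hS hF hE
  by_cases hV : PV K ≤ E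
  · exact Or.inl hV
  · right
    have hY := H.e1 hK he
    obtain ⟨hQ, hI⟩ := H.e3 hK he hY (H.e2 hK he hY hV)
    obtain ⟨hC, -, hchar⟩ := (H.ti hK).2 _ (Or.inr rfl)
    exact H.ovr F (PQ K) E hS hF hE hQ (PU.top_le_normalizer_of_char hchar) hC (ti_Q H hK hF) hI

theorem ess_cases (H : Pcs.{u}) (hK : HypK K p n) (hq : 2 < p ^ n) {F : FusionSystem (⊤ : Subgroup (PG K))}
    (hF : F.IsSaturated p) {E : Subgroup (PG K)} (hE : F.IsEssential p E) : E = PV K ∨ E = PQ K := by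
  have : Fact p.Prime := ⟨hK.pp⟩
  have hfin : Finite (PG K) := finite_PG H hK
  have hS : IsPGroup p (⊤ : Subgroup (PG K)) := (H.grp hK).2.1
  rcases ess_not_V H hK hF hE with h | h
  · exact Or.inl (H.e4 hK hq (H.ess F E hS hF hE) h)
  · exact Or.inr h

/-- the normal form: `Aut_F(S) = Inn(S) D`, `D ≤ TP`, both parabolics non-normal, `Aut_F(V) = LamV D` -/
structure NF (p : ℕ) (F : FusionSystem (⊤ : Subgroup (PG K))) (D : Subgroup (MulAut (PG K))) : Prop where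
  sat : F.IsSaturated p
  ess : ∀ E, F.IsEssential p E → E = PV K ∨ E = PQ K
  AF_eq : AF F = (MulAut.conj : PG K →* MulAut (PG K)).range ⊔ D
  parV : ParP p (PV K) (F.autGroup (PV K)) D
  parQ : ParP p (PQ K) (F.autGroup (PQ K)) D
  tor : HasTorP D (fun t => t ^ 2) (fun t => (t * star t)⁻¹)
  eqV : EqLD (F.autGroup (PV K)) (LamV K) D

theorem par_of (H : Pcs.{u}) (hK : HypK K p n) {F : FusionSystem (⊤ : Subgroup (PG K))} (hF : F.IsSaturated p)
    (hess : ∀ E, F.IsEssential p E → E = PV K ∨ E = PQ K) {D : Subgroup (MulAut (PG K))} (hD : D ≤ TP K)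
    (hDc : (Nat.card D).Coprime p) (hAF : AF F = (MulAut.conj : PG K →* MulAut (PG K)).range ⊔ D)
    {Q : Subgroup (PG K)} (hQ : Q = PV K ∨ Q = PQ K)
    (hn : ¬ ∀ γ ∈ F.autGroup Q, NormAut (⊤ : Subgroup (PG K)) γ) : ParP p Q (F.autGroup Q) D := by
  have : Fact p.Prime := ⟨hK.pp⟩
  refine H.par hK F D Q hF hQ hD hDc hAF ?_ hn
  rcases hQ with rfl | rfl
  · refine ti_V H hK hF fun E hE hV => ?_
    rcases hess E hE with h | h
    · exact h
    · exfalso
      subst h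
      have h1 : ({ r := 0, a := 0, b := 0, c := 1, ha := by simp, hc := by simp } : PG K) ∈ PV K := rfl
      have h2 : (1 : K) = 0 := hV h1
      exact one_ne_zero h2
  · exact ti_Q H hK hF

/-- a system whose essential subgroups are among `V`, `Q` is realizable if one of the automizers is normal -/
theorem real_of_norm (H : Pcs.{u}) (hK : HypK K p n) {F : FusionSystem (⊤ : Subgroup (PG K))} (hF : F.IsSaturated p)
    (hess : ∀ E, F.IsEssential p E → E = PV K ∨ E = PQ K)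
    {Q : Subgroup (PG K)} (hQ : Q = PV K ∨ Q = PQ K)
    (hn : ∀ γ ∈ F.autGroup Q, NormAut (⊤ : Subgroup (PG K)) γ) : F.IsRealizable p := by
  have : Fact p.Prime := ⟨hK.pp⟩
  have hfin : Finite (PG K) := finite_PG H hK
  have hS : IsPGroup p (⊤ : Subgroup (PG K)) := (H.grp hK).2.1
  have hnE : ¬ F.IsEssential p Q := fun hE => PU.not_norm_of_ess (H.ess F Q hS hF hE) hn
  obtain ⟨Q', hQ', hu⟩ : ∃ Q', (Q' = PV K ∨ Q' = PQ K) ∧ ∀ E, F.IsEssential p E → E = Q' := by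
    rcases hQ with h | h
    · refine ⟨PQ K, Or.inr rfl, fun E hE => ?_⟩
      rcases hess E hE with h1 | h1
      · rw [h1, ← h] at hE; exact absurd hE hnE
      · exact h1
    · refine ⟨PV K, Or.inl rfl, fun E hE => ?_⟩
      rcases hess E hE with h1 | h1
      · exact h1
      · rw [h1, ← h] at hE; exact absurd hE hnE
  obtain ⟨hC, -, hchar⟩ := (H.ti hK).2 Q' hQ'
  exact H.con F Q' hS hF le_top (PU.top_le_normalizer_of_char hchar) hC hu (PU.inv_top_of_char hchar)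

theorem card_map_conj {G : Type*} [Group G] (A : Subgroup G) (g : G) :
    Nat.card (A.map (MulAut.conj g).toMonoidHom) = Nat.card A :=
  (Nat.card_congr (A.equivMapOfInjective _ (MulAut.conj g).injective).toEquiv).symm

/-- the restriction of an automorphism of `PG K` to a characteristic subgroup -/
theorem exists_res {Q : Subgroup (PG K)} (θ : MulAut (PG K)) (h : Q.map θ.toMonoidHom = Q) :
    ∃ t : MulAut Q, IsRP θ t := by
  refine ⟨(θ.subgroupMap Q).trans (MulEquiv.subgroupCongr h), fun e => ?_⟩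
  rfl

theorem normAut_conj_iff {Q : Subgroup (PG K)} {θ : MulAut (PG K)} {t : MulAut Q} (ht : IsRP θ t) (γ : MulAut Q) :
    NormAut (⊤ : Subgroup (PG K)) (t * γ * t⁻¹) ↔ NormAut (⊤ : Subgroup (PG K)) γ := by
  have key : ∀ (θ' : MulAut (PG K)) (t' : MulAut Q), IsRP θ' t' → ∀ x ∈ autInducedBy (⊤ : Subgroup (PG K)) Q,
      t' * x * t'⁻¹ ∈ autInducedBy (⊤ : Subgroup (PG K)) Q := by
    intro θ' t' h x hx
    obtain ⟨g, -, hg⟩ := (mem_autInducedBy_iff _ _ _).1 hx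
    refine (mem_autInducedBy_iff _ _ _).2 ⟨θ' g, trivial, fun y => ?_⟩
    have h1 := hg (t'⁻¹ y)
    have h2 : ((y : Q) : PG K) = θ' ((t'⁻¹ y : Q) : PG K) := by
      rw [← h, MulAut.apply_inv_self]
    rw [MulAut.mul_apply, MulAut.mul_apply, h, h1, h2]
    simp only [map_mul, map_inv]
  have ht' : IsRP θ⁻¹ t⁻¹ := by
    intro e
    apply θ.injective
    rw [MulAut.apply_inv_self, ← ht, MulAut.apply_inv_self]
  constructor
  · intro h x hx
    have h1 := key _ _ ht' _ (h _ (key _ _ ht x hx))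
    have h2 : t⁻¹ * (t * γ * t⁻¹ * (t * x * t⁻¹) * (t * γ * t⁻¹)⁻¹) * t⁻¹⁻¹ = γ * x * γ⁻¹ := by group
    rwa [h2] at h1
  · intro h x hx
    have h1 := key _ _ ht _ (h _ (key _ _ ht' x hx))
    have h2 : t * (γ * (t⁻¹ * x * t⁻¹⁻¹) * γ⁻¹) * t⁻¹ = t * γ * t⁻¹ * x * (t * γ * t⁻¹)⁻¹ := by group
    rwa [h2] at h1

/-- the relation between a system and its twist, as far as needed -/
structure Tw (p : ℕ) (F F' : FusionSystem (⊤ : Subgroup (PG K))) (θ : MulAut (PG K)) : Prop where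
  sat : F'.IsSaturated p
  real : F'.IsRealizable p ↔ F.IsRealizable p
  AF_eq : AF F' = (AF F).map (MulAut.conj θ).toMonoidHom
  ess : (∀ E, F.IsEssential p E → E = PV K ∨ E = PQ K) → ∀ E, F'.IsEssential p E → E = PV K ∨ E = PQ K
  aut : ∀ Q : Subgroup (PG K), (Q = PV K ∨ Q = PQ K) → ∀ t : MulAut Q, IsRP θ t →
    F'.autGroup Q = (F.autGroup Q).map (MulAut.conj t).toMonoidHom
  norm : ∀ Q : Subgroup (PG K), (Q = PV K ∨ Q = PQ K) → ((∀ γ ∈ F'.autGroup Q, NormAut (⊤ : Subgroup (PG K)) γ) ↔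
    ∀ γ ∈ F.autGroup Q, NormAut (⊤ : Subgroup (PG K)) γ)
  card : ∀ Q : Subgroup (PG K), (Q = PV K ∨ Q = PQ K) → Nat.card (F'.autGroup Q) = Nat.card (F.autGroup Q)

theorem exists_tw (H : Pcs.{u}) (hK : HypK K p n) {F : FusionSystem (⊤ : Subgroup (PG K))} (hF : F.IsSaturated p)
    (θ : MulAut (PG K)) : ∃ F', Tw p F F' θ := by
  have : Fact p.Prime := ⟨hK.pp⟩
  have hfin : Finite (PG K) := finite_PG H hK
  obtain ⟨F', h1, h2, h3, h4, h5⟩ := H.tw F θ hF
  have hc := fun Q hQ => ((H.ti hK).2 Q hQ).2.2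
  refine ⟨F', h1, h2, h3, ?_, fun Q _ t ht => h5 Q t ht, ?_, ?_⟩
  · intro h E hE
    have e1 : (E.map θ⁻¹.toMonoidHom).map θ.toMonoidHom = E := by
      rw [Subgroup.map_map]
      convert Subgroup.map_id E
      refine MonoidHom.ext fun x => ?_
      show θ (θ⁻¹ x) = x
      exact MulAut.apply_inv_self _ _ _
    have e2 : F.IsEssential p (E.map θ⁻¹.toMonoidHom) := by
      rw [h4, e1]
      exact hE
    rcases h _ e2 with h6 | h6
    · left
      rw [← e1, h6]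
      exact hc _ (Or.inl rfl) θ
    · right
      rw [← e1, h6]
      exact hc _ (Or.inr rfl) θ
  · intro Q hQ
    obtain ⟨t, ht⟩ := exists_res θ (hc Q hQ θ)
    rw [h5 Q t ht]
    constructor
    · intro h γ hγ
      rw [← normAut_conj_iff ht]
      exact h _ ⟨γ, hγ, rfl⟩
    · rintro h _ ⟨γ, hγ, rfl⟩
      exact (normAut_conj_iff ht γ).2 (h γ hγ)
  · intro Q hQ
    obtain ⟨t, ht⟩ := exists_res θ (hc Q hQ θ)
    rw [h5 Q t ht, card_map_conj]

/-- normal form for `D` given -/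
theorem nf_of_D (H : Pcs.{u}) (hK : HypK K p n) {F : FusionSystem (⊤ : Subgroup (PG K))} (hF : F.IsSaturated p)
    (hess : ∀ E, F.IsEssential p E → E = PV K ∨ E = PQ K) {D : Subgroup (MulAut (PG K))} (hD : D ≤ TP K)
    (hDc : (Nat.card D).Coprime p) (hAF : AF F = (MulAut.conj : PG K →* MulAut (PG K)).range ⊔ D)
    (hnV : ¬ ∀ γ ∈ F.autGroup (PV K), NormAut (⊤ : Subgroup (PG K)) γ)
    (hnQ : ¬ ∀ γ ∈ F.autGroup (PQ K), NormAut (⊤ : Subgroup (PG K)) γ) :
    ∃ (ψ : K → K) (θ : MulAut (PG K)) (F' : FusionSystem (⊤ : Subgroup (PG K))), IsTh ψ θ ∧ Tw p F F' θ ∧ NF p F' D := by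
  obtain ⟨htor, ψ, θ, t, hθ, hcomm, hres, heq⟩ :=
    H.v hK _ D (par_of H hK hF hess hD hDc hAF (Or.inl rfl) hnV)
  obtain ⟨F', hT⟩ := exists_tw H hK hF θ
  have hAF' : AF F' = (MulAut.conj : PG K →* MulAut (PG K)).range ⊔ D := by
    rw [hT.AF_eq, hAF, Subgroup.map_sup, PU.map_conj_range]
    congr 1
    ext x
    constructor
    · rintro ⟨d, hd, rfl⟩
      have : MulAut.conj θ d = d := by
        rw [MulAut.conj_apply, hcomm d hd, mul_inv_cancel_right]
      show MulAut.conj θ d ∈ D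
      rw [this]; exact hd
    · intro hx
      refine ⟨x, hx, ?_⟩
      show MulAut.conj θ x = x
      rw [MulAut.conj_apply, hcomm x hx, mul_inv_cancel_right]
  have hess' := hT.ess hess
  refine ⟨ψ, θ, F', hθ, hT, hT.sat, hess', hAF', ?_, ?_, htor, ?_⟩
  · exact par_of H hK hT.sat hess' hD hDc hAF' (Or.inl rfl) (fun h => hnV ((hT.norm _ (Or.inl rfl)).1 h))
  · exact par_of H hK hT.sat hess' hD hDc hAF' (Or.inr rfl) (fun h => hnQ ((hT.norm _ (Or.inr rfl)).1 h))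
  · rw [hT.aut _ (Or.inl rfl) t hres]
    exact heq

/-- the normal form -/
theorem exists_NF (H : Pcs.{u}) (hK : HypK K p n) {F : FusionSystem (⊤ : Subgroup (PG K))} (hF : F.IsSaturated p)
    (hess : ∀ E, F.IsEssential p E → E = PV K ∨ E = PQ K)
    (hnV : ¬ ∀ γ ∈ F.autGroup (PV K), NormAut (⊤ : Subgroup (PG K)) γ)
    (hnQ : ¬ ∀ γ ∈ F.autGroup (PQ K), NormAut (⊤ : Subgroup (PG K)) γ) :
    ∃ (θ : MulAut (PG K)) (F' : FusionSystem (⊤ : Subgroup (PG K))) (D : Subgroup (MulAut (PG K))),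
      Tw p F F' θ ∧ NF p F' D := by
  have : Fact p.Prime := ⟨hK.pp⟩
  have hfin : Finite (PG K) := finite_PG H hK
  have hS : IsPGroup p (⊤ : Subgroup (PG K)) := (H.grp hK).2.1
  obtain ⟨D0, hD0, hD0e⟩ := H.compl F hS hF
  obtain ⟨θ, hθ⟩ := H.pos hK D0 hD0
  obtain ⟨F1, h1⟩ := exists_tw H hK hF θ
  have hAF1 : AF F1 = (MulAut.conj : PG K →* MulAut (PG K)).range ⊔ D0.map (MulAut.conj θ).toMonoidHom := by
    rw [h1.AF_eq, ← hD0e, Subgroup.map_sup, PU.map_conj_range]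
  obtain ⟨ψ, θ2, F2, hψ, h2, hNF⟩ := nf_of_D H hK h1.sat (h1.ess hess) (D := D0.map (MulAut.conj θ).toMonoidHom)
    (by rintro _ ⟨d, hd, rfl⟩; exact hθ d hd) (by rw [card_map_conj]; exact hD0) hAF1
    (fun h => hnV ((h1.norm _ (Or.inl rfl)).1 h)) (fun h => hnQ ((h1.norm _ (Or.inr rfl)).1 h))
  refine ⟨θ2 * θ, F2, _, ⟨h2.sat, h2.real.trans h1.real, ?_, fun h => h2.ess (h1.ess h), ?_, ?_, ?_⟩, hNF⟩
  · rw [h2.AF_eq, h1.AF_eq, Subgroup.map_map, map_mul]
    rfl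
  · intro Q hQ t ht
    obtain ⟨t1, ht1⟩ := exists_res θ (((H.ti hK).2 Q hQ).2.2 θ)
    have ht2 : IsRP θ2 (t * t1⁻¹) := by
      intro e
      have e1 := ht (t1⁻¹ e)
      rw [MulAut.mul_apply, e1, MulAut.mul_apply, ← ht1, MulAut.apply_inv_self]
    rw [h2.aut Q hQ _ ht2, h1.aut Q hQ _ ht1, Subgroup.map_map]
    congr 1
    refine MonoidHom.ext fun x => ?_
    show t * t1⁻¹ * (t1 * x * t1⁻¹) * (t * t1⁻¹)⁻¹ = t * x * t⁻¹
    group
  · intro Q hQ
    exact (h2.norm Q hQ).trans (h1.norm Q hQ)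
  · intro Q hQ
    exact (h2.card Q hQ).trans (h1.card Q hQ)

/-- two systems in normal form with the same `D` and the same `Aut(Q)` are equal -/
theorem NF.eq_of (H : Pcs.{u}) (hK : HypK K p n) {F F' : FusionSystem (⊤ : Subgroup (PG K))}
    {D : Subgroup (MulAut (PG K))} (h : NF p F D) (h' : NF p F' D)
    (hQ : F.autGroup (PQ K) = F'.autGroup (PQ K)) : F = F' := by
  have : Fact p.Prime := ⟨hK.pp⟩
  have hfin : Finite (PG K) := finite_PG H hK
  have hS : IsPGroup p (⊤ : Subgroup (PG K)) := (H.grp hK).2.1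
  exact fusionSystem_ext (H.same F F' (PV K) (PQ K) hS h.sat h'.sat le_top le_top h.ess h'.ess
    (PU.autGroup_top_eq_of_AF (h.AF_eq.trans h'.AF_eq.symm))
    (Subgroup.ext fun γ => (h.eqV γ).trans (h'.eqV γ).symm) hQ)

theorem EqLD.eq {Q : Subgroup (PG K)} {Γ Γ' Lam : Subgroup (MulAut Q)} {D : Subgroup (MulAut (PG K))}
    (h : EqLD Γ Lam D) (h' : EqLD Γ' Lam D) : Γ = Γ' :=
  Subgroup.ext fun γ => (h γ).trans (h' γ).symm

/-- the realizable system in normal form for a given `D` -/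
theorem exists_real (H : Pcs.{u}) (hK : HypK K p n) {F : FusionSystem (⊤ : Subgroup (PG K))}
    {D : Subgroup (MulAut (PG K))} (h : NF p F D) (hT : HasTorK D) :
    ∃ F0 : FusionSystem (⊤ : Subgroup (PG K)), NF p F0 D ∧ F0.IsRealizable p ∧
      (∀ γ ∈ F0.autGroup (PQ K), ∃ l ∈ LamQ K, ∃ d ∈ D, ∃ δ : MulAut (PQ K), IsRP d δ ∧ γ = l * δ) := by
  have : Fact p.Prime := ⟨hK.pp⟩
  obtain ⟨F1, h1, h2, h3, h4, h5, h6, h7⟩ := H.real hK D h.parV.D_le h.parV.D_cop h.tor hT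
  obtain ⟨ψ, θ, F0, hθ, hTw, hNF⟩ := nf_of_D H hK h1 h7 h.parV.D_le h.parV.D_cop h3 h4 h5
  refine ⟨F0, hNF, hTw.real.2 h2, ?_⟩
  have hψ0 : ψ 0 = 0 := by
    have := hθ.add 0 0 (by simp) (by simp)
    simpa using this
  have hr : IsRP θ (1 : MulAut (PQ K)) := by
    intro e
    have hc : (e : PG K).c = 0 := e.2
    apply PG.ext
    · exact (hθ.r _).symm
    · show _ = (θ (e : PG K)).a
      rw [hθ.a, hc, hψ0, add_zero]
      rfl
    · exact (hθ.b _).symm
    · exact (hθ.c _).symm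
  have h8 := hTw.aut _ (Or.inr rfl) 1 hr
  intro γ hγ
  rw [h8] at hγ
  obtain ⟨γ', hγ', rfl⟩ := hγ
  have : (MulAut.conj (1 : MulAut (PQ K))).toMonoidHom γ' = γ' := by simp
  rw [this]
  exact h6 γ' hγ'

/-- `q > 3` -/
theorem real_gt (H : Pcs.{u}) (hQ : StQ.{u}) (hK : HypK K p n) (hq : 3 < p ^ n)
    {F : FusionSystem (⊤ : Subgroup (PG K))} (hF : F.IsSaturated p) : F.IsRealizable p := by
  have hess : ∀ E, F.IsEssential p E → E = PV K ∨ E = PQ K := fun E hE => ess_cases H hK (by omega) hF hE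
  by_cases hnV : ∀ γ ∈ F.autGroup (PV K), NormAut (⊤ : Subgroup (PG K)) γ
  · exact real_of_norm H hK hF hess (Or.inl rfl) hnV
  by_cases hnQ : ∀ γ ∈ F.autGroup (PQ K), NormAut (⊤ : Subgroup (PG K)) γ
  · exact real_of_norm H hK hF hess (Or.inr rfl) hnQ
  obtain ⟨θ, F', D, hTw, hNF⟩ := exists_NF H hK hF hess hnV hnQ
  obtain ⟨hT, hE⟩ := hQ hK hq _ D hNF.parQ hNF.tor
  obtain ⟨F0, h0, hR, -⟩ := exists_real H hK hNF hT
  obtain ⟨-, hE0⟩ := hQ hK hq _ D h0.parQ h0.tor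
  have := hNF.eq_of H hK h0 (hE.eq hE0)
  rw [← hTw.real, this]
  exact hR

end

end Cfsg.Agent.H776.P4
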