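import Mathlib

/-!
# S5210: the concrete Sylow `p`-subgroup `PG K` of `PSU₄(K)`

`K` is a field with an involution `star` (`x ↦ x^q`). The elements are the products `v · u_r`, where
`v = [a, b; star b, c]` is hermitian (the abelian normal subgroup `V`) and `u_r` acts as `v ↦ A v A*`, `A = [1, r; 0, 1]`.
-/

set_option autoImplicit false

namespace Cfsg.Agent.H776.P4

universe u

/-- the unipotent group of order `q⁶` -/
@[ext] structure PG (K : Type u) [Field K] [StarRing K] where
  r : K
  a : K
  b : K
  c : K
  ha : star a = a
  hc : star c = c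

namespace PG

variable {K : Type u} [Field K] [StarRing K]

instance : Mul (PG K) := ⟨fun x y =>
  { r := x.r + y.r
    a := x.a + y.a + x.r * star y.b + star x.r * y.b + x.r * star x.r * y.c
    b := x.b + y.b + x.r * y.c
    c := x.c + y.c
    ha := by
      simp only [star_add, star_mul', star_star, x.ha, y.ha, y.hc]
      ring
    hc := by
      simp only [star_add, x.hc, y.hc] }⟩

instance : One (PG K) := ⟨{ r := 0, a := 0, b := 0, c := 0, ha := by simp, hc := by simp }⟩

instance : Inv (PG K) := ⟨fun x =>
  { r := - x.r
    a := - x.a + x.r * star x.b + star x.r * x.b - x.r * star x.r * x.c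
    b := - x.b + x.r * x.c
    c := - x.c
    ha := by
      simp only [star_add, star_sub, star_mul', star_star, star_neg, x.ha, x.hc]
      ring
    hc := by
      simp only [star_neg, x.hc] }⟩

@[simp] theorem mul_r (x y : PG K) : (x * y).r = x.r + y.r := rfl
theorem mul_a (x y : PG K) : (x * y).a =
    x.a + y.a + x.r * star y.b + star x.r * y.b + x.r * star x.r * y.c := rfl
theorem mul_b (x y : PG K) : (x * y).b = x.b + y.b + x.r * y.c := rfl
@[simp] theorem mul_c (x y : PG K) : (x * y).c = x.c + y.c := rfl
@[simp] theorem one_r : (1 : PG K).r = 0 := rfl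
@[simp] theorem one_a : (1 : PG K).a = 0 := rfl
@[simp] theorem one_b : (1 : PG K).b = 0 := rfl
@[simp] theorem one_c : (1 : PG K).c = 0 := rfl
@[simp] theorem inv_r (x : PG K) : (x⁻¹).r = - x.r := rfl
theorem inv_a (x : PG K) : (x⁻¹).a =
    - x.a + x.r * star x.b + star x.r * x.b - x.r * star x.r * x.c := rfl
theorem inv_b (x : PG K) : (x⁻¹).b = - x.b + x.r * x.c := rfl
@[simp] theorem inv_c (x : PG K) : (x⁻¹).c = - x.c := rfl

instance : Group (PG K) where
  mul_assoc x y z := by
    ext
    · simp only [mul_r]; ring
    · simp only [mul_r, mul_a, mul_b, mul_c, star_add, star_mul', z.hc]; ring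
    · simp only [mul_r, mul_b, mul_c]; ring
    · simp only [mul_c]; ring
  one_mul x := by
    ext <;> simp [mul_a, mul_b]
  mul_one x := by
    ext <;> simp [mul_a, mul_b]
  inv_mul_cancel x := by
    ext
    · simp
    · simp only [mul_a, inv_a, inv_r, one_a, star_neg]; ring
    · simp only [mul_b, inv_b, inv_r, one_b]; ring
    · simp

end PG

end Cfsg.Agent.H776.P4
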