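import Cfsg.Agent.H776.P4.Final
import Cfsg.Agent.H776.P4.EngFin
import Cfsg.Agent.H732.PU.Chain
import Cfsg.Agent.H52.PU.StFF
import Cfsg.Agent.H12.PU.Comm
import Cfsg.Agent.H161.PU.Lift
import Cfsg.Agent.H55.P4.StepOne
import Cfsg.Agent.H446.P4.E2
import Cfsg.Agent.H932.P4.E3
import Cfsg.Agent.H881.P4.Auts
import Cfsg.Agent.H1.P4.TI
import Cfsg.Agent.H128.P4.Par
import Cfsg.Agent.H396.P4.Pos
import Cfsg.Agent.H569.P4.V
import Cfsg.Agent.H168.P4.TwoE
import Cfsg.Agent.H168.P4.TwoS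
import Cfsg.Agent.H71.P4.ThreeD
import Cfsg.Agent.H38.P4.Main
import Cfsg.Agent.H575.P4.ThreeC
import Cfsg.Agent.H753.P4.ThreeN
import Cfsg.Agent.H987.P4.Ep
import Cfsg.Agent.H64.P4.LamN
import Cfsg.Agent.H763.P4.Q
import Cfsg.Agent.H699.P4.TwoR
import Cfsg.Agent.H64.P4.Kill
import Cfsg.Agent.H568.P4.TwoU
import Cfsg.Agent.H675.P4.Qa
import Cfsg.Agent.H858.P4.E4
import Cfsg.Agent.H353.P4.QTwo
import Cfsg.Agent.H994.P4.QOneTwo
import Cfsg.Agent.H859.P4.QOne
import Cfsg.Agent.H834.P4.TwoB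
import Cfsg.Agent.H898.P4.ThreeB
import Cfsg.Agent.H473.P4.ThreeT
import Cfsg.Agent.H747.P4.Two
import Cfsg.Agent.H772.P4.AsmThree
import Cfsg.Agent.H815.P4.CoTwo
import Cfsg.Agent.H936.P4.Ends

/-!
# S5210: the leaves
-/

set_option autoImplicit false

namespace Cfsg.Agent.H776.P4

open Cfsg.Agent.H756.PU (HypK)

universe u

theorem grp : StGrp.{u} := H881.P4.stGrp
theorem e1 : StE1.{u} := H55.P4.stE1 H732.PU.stChain H52.PU.stFF
theorem e2 : StE2.{u} := H446.P4.stE2 H12.PU.stComm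
theorem e3 : StE3.{u} := H932.P4.stE3 H732.PU.stChain H52.PU.stFF
theorem e4 : StE4.{u} := H858.P4.stE4
theorem ti : StTI.{u} := H1.P4.stTI
theorem par : StPar.{u} := H128.P4.stPar grp ti
theorem pos : StPos.{u} := H396.P4.stPos ti grp
theorem twoE : StTwoE.{u} := H168.P4.stTwoE e1 e2 e3 ti
theorem twoS : StTwoS.{u} := H168.P4.stTwoS twoE
theorem qTwo : StQTwo.{u} := H353.P4.QTwo.stQTwo
theorem twoB : StTwoB.{u} := H834.P4.stTwoB twoE ti par qTwo grp
theorem twoU : StTwoU.{u} := H568.P4.twoU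
theorem twoR : StTwoR.{u} := H699.P4.stTwoR
theorem threeA : StThreeA.{u} := H38.P4.stThreeA grp
theorem threeB : StThreeB.{u} := H898.P4.stThreeB
theorem threeC : StThreeC.{u} := H575.P4.stThreeC grp
theorem threeD : StThreeD.{u} := H71.P4.stThreeD grp threeA threeB threeC
theorem threeN : StThreeN.{u} := H753.P4.stThreeN grp
theorem threeT : StThreeT.{u} := H473.P4.stThreeT grp
theorem ep : StEp.{u} := H987.P4.stEp
theorem lamN : StLamN.{u} := H64.P4.stLamN grp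
theorem real_of (hA : H64.P4.StRealA.{u}) : StReal.{u} := H64.P4.stReal hA grp e1 e2 e3 e4 twoE

theorem q1 (hRk : StRk.{u}) : StQ1.{u} := by
  intro K _ _ p n hK hq Γ D hP hT
  by_cases h2 : p = 2
  · exact H994.P4.stQ1_two hRk grp hK h2 hq Γ D hP hT
  · exact H859.P4.stQ1_odd grp hK h2 hq Γ D hP hT

theorem q_of (hRk : StRk.{u}) : StQ.{u} := H763.P4.stQ grp H161.PU.stLift (H675.P4.stQa (q1 hRk) grp)

theorem pcs_of (hV1 : StV1.{u}) (hA : H64.P4.StRealA.{u}) : Pcs.{u} where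
  toEng := eng
  grp := grp
  e1 := e1
  e2 := e2
  e3 := e3
  e4 := e4
  ti := ti
  par := par
  pos := pos
  v := H569.P4.stV hV1 grp
  real := real_of hA

theorem two_of (H : Pcs.{u}) {K : Type u} [Field K] [StarRing K] {p n : ℕ} (hK : HypK K p n) (h2 : p ^ n = 2) :
    StAll K p := fun _ hF => H747.P4.real_two H twoE qTwo twoB twoU twoR twoS hK h2 hF

theorem co2 : StThreeP.{u} 32 3840 :=
  H815.P4.stThreeP_co2 grp pos H805.PU.stCompl ti threeD threeN

theorem tpc (H : Pcs.{u}) : H936.P4.TPc.{u} where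
  toPcs := H
  tA := threeA
  tD := threeD
  tN := threeN
  tT := threeT

theorem three_of (H : Pcs.{u}) (hC : H936.P4.Neg H264.U4.pC) (hu : StThreeP.{u} 8 384) (hu2 : StThreeP.{u} 16 768)
    {K : Type u} [Field K] [StarRing K] {p n : ℕ} (hK : HypK K p n) (h3 : p ^ n = 3) : StAll K p := fun _ hF =>
  H772.P4.real_three
    { toPcs := H
      d3 := threeD
      n3 := threeN
      t3 := threeT
      ep := ep
      lamN := lamN
      mcl := H936.P4.stThreeP_C (tpc H) hC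
      mcl2 := H936.P4.stThreeP_C2 (tpc H) hC
      u6 := hu
      u62 := hu2
      co2 := co2 } hK h3 hF

/-- everything, from the remaining pieces -/
theorem all_of (hRk : StRk.{u}) (hV1 : StV1.{u}) (hA : H64.P4.StRealA.{u}) (hC : H936.P4.Neg H264.U4.pC)
    (hu : StThreeP.{u} 8 384) (hu2 : StThreeP.{u} 16 768)
    {K : Type u} [Field K] [StarRing K] {p n : ℕ} (hK : HypK K p n) : StAll K p :=
  real_all (pcs_of hV1 hA) (q_of hRk) (two_of (pcs_of hV1 hA)) (three_of (pcs_of hV1 hA) hC hu hu2) hK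

end Cfsg.Agent.H776.P4
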